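import Mathlib
import Groth.Prelude.Def_W4c5stacksedinertiaGpd

set_option autoImplicit false

open W4c5stacksedinertia

namespace Groth.Agent.Inertia

universe u v

noncomputable def ofEquiv (G : Type u) [Group G] [Finite G] : (FinGrp.of G).carrier ≃* G where
  toEquiv := (Nat.equivFinOfCardPos (α := G) Nat.card_pos.ne').symm
  map_mul' _ _ := (Nat.equivFinOfCardPos (α := G) Nat.card_pos.ne').symm.apply_symm_apply _

theorem idx_of_congr {G : Type u} {H : Type v} [Group G] [Finite G] [Group H] [Finite H] (e : G ≃* H) :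
    Idx.of G = Idx.of H := by
  apply Quotient.sound
  exact ⟨((ofEquiv G).trans e).trans (ofEquiv H).symm⟩

theorem cl_congr {G : Type u} {H : Type v} [Group G] [Finite G] [Group H] [Finite H] (e : G ≃* H) :
    cl G = cl H := by rw [cl, cl, idx_of_congr e]

theorem repEquiv (G : Type u) [Group G] [Finite G] : Nonempty ((Idx.of G).rep ≃* G) := by
  obtain ⟨e⟩ := Quotient.mk_out (s := FinGrp.setoid) (FinGrp.of G)
  exact ⟨e.trans (ofEquiv G)⟩

theorem idx_card (G : Type u) [Group G] [Finite G] : (Idx.of G).card = Nat.card G :=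
  Nat.card_congr (repEquiv G).some.toEquiv

theorem idx_centerCard (G : Type u) [Group G] [Finite G] :
    (Idx.of G).centerCard = Nat.card (Subgroup.center G) :=
  Nat.card_congr (Subgroup.centerCongr (repEquiv G).some).toEquiv

theorem idx_of_rep (i : Idx) : Idx.of i.rep = i := by
  conv_rhs => rw [← Quotient.out_eq (s := FinGrp.setoid) i]
  refine Quotient.sound ⟨?_⟩
  exact ofEquiv i.rep

section tuples

variable {G : Type} [Group G] [Finite G] {r : ℕ}

instance : Finite (CommTuple G r) := inferInstanceAs (Finite (Subtype _))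

/-- common centralizer -/
abbrev C (s : CommTuple G r) : Subgroup G := Subgroup.centralizer (Set.range s.1)

omit [Finite G] in
theorem mem_C (s : CommTuple G r) (g : G) : g ∈ C s ↔ ∀ i, Commute (s.1 i) g := by
  simp [C, Subgroup.mem_centralizer_iff, Commute, SemiconjBy]

noncomputable instance : Fintype (CommTuple G r) := Fintype.ofFinite _

variable (G r) in
noncomputable def T : K := ∑ s : CommTuple G r, (Nat.card (C s) : ℚ) • cl (C s)

omit [Finite G] in
theorem card_class (a : CommTuple G r) :
    Nat.card {t : CommTuple G r // (CommTuple.setoid G r).r a t} * Nat.card (C a) = Nat.card G := by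
  classical
  rw [Subgroup.card_eq_card_quotient_mul_card_subgroup (C a)]
  congr 1
  refine (Nat.card_congr (Equiv.ofBijective (Quotient.lift (fun g => (⟨⟨fun i => g * a.1 i * g⁻¹, ?_, ?_⟩,
    g, fun i => rfl⟩ : {t : CommTuple G r // (CommTuple.setoid G r).r a t})) ?_) ⟨?_, ?_⟩)).symm
  · exact fun i j h => a.2.1 (by simpa using h)
  · intro i j
    exact (a.2.2 i j).map (MulAut.conj g).toMonoidHom
  · intro g h hgh
    have hm : g⁻¹ * h ∈ C a := QuotientGroup.leftRel_apply.1 hgh
    refine Subtype.ext (Subtype.ext (funext fun i => ?_))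
    have := ((mem_C a _).1 hm i).eq
    calc g * a.1 i * g⁻¹ = g * (a.1 i * (g⁻¹ * h)) * h⁻¹ := by group
      _ = g * ((g⁻¹ * h) * a.1 i) * h⁻¹ := by rw [this]
      _ = h * a.1 i * h⁻¹ := by group
  · intro x y
    induction x using Quotient.inductionOn with | h g => ?_
    induction y using Quotient.inductionOn with | h h => ?_
    intro e
    refine Quotient.sound (QuotientGroup.leftRel_apply.2 ((mem_C a _).2 fun i => ?_))
    have e' : g * a.1 i * g⁻¹ = h * a.1 i * h⁻¹ := congrFun (congrArg (fun t => t.1.1) e) i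
    show a.1 i * (g⁻¹ * h) = g⁻¹ * h * a.1 i
    calc a.1 i * (g⁻¹ * h) = g⁻¹ * (g * a.1 i * g⁻¹) * h := by group
      _ = g⁻¹ * (h * a.1 i * h⁻¹) * h := by rw [e']
      _ = g⁻¹ * h * a.1 i := by group
  · rintro ⟨t, g, hg⟩
    exact ⟨Quotient.mk _ g, Subtype.ext (Subtype.ext (funext hg))⟩

omit [Finite G] in
/-- conjugate tuples have isomorphic centralizers -/
theorem C_equiv {a b : CommTuple G r} (h : (CommTuple.setoid G r).r a b) : Nonempty (C a ≃* C b) := by
  obtain ⟨g, hg⟩ := h
  refine ⟨((C a).equivMapOfInjective (MulAut.conj g).toMonoidHom (MulAut.conj g).injective).trans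
    (MulEquiv.subgroupCongr ?_)⟩
  ext x
  rw [Subgroup.mem_map_equiv, mem_C, mem_C]
  refine forall_congr' fun i => ?_
  rw [← hg i]
  constructor
  · intro hh
    simpa [mul_assoc] using hh.map (MulAut.conj g).toMonoidHom
  · intro hh
    have := hh.map (MulAut.conj g⁻¹).toMonoidHom
    simpa [mul_assoc] using this

theorem card_smul_inertiaROf : (Nat.card G : ℚ) • inertiaROf r G = T G r := by
  classical
  have : Finite (CommTuple.Orbit G r) := inferInstanceAs (Finite (Quotient _))
  have := Fintype.ofFinite (CommTuple.Orbit G r)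
  let q : CommTuple G r → CommTuple.Orbit G r := fun s => Quotient.mk _ s
  rw [inertiaROf, finsum_eq_sum_of_fintype, Finset.smul_sum, T, ← Finset.sum_fiberwise Finset.univ q]
  refine Finset.sum_congr rfl fun O _ => ?_
  set a := Quotient.out (s := CommTuple.setoid G r) O
  have hrel : ∀ t : CommTuple G r, (Quotient.mk (CommTuple.setoid G r) t : CommTuple.Orbit G r) = O ↔
      (CommTuple.setoid G r).r a t := fun t => by
    constructor
    · intro h
      exact Quotient.exact (s := CommTuple.setoid G r) ((Quotient.out_eq O).trans h.symm)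
    · intro h
      exact (Quotient.sound (s := CommTuple.setoid G r) h).symm.trans (Quotient.out_eq O)
  have hc : ∀ t ∈ Finset.univ.filter (fun t => q t = O),
      (Nat.card (C t) : ℚ) • cl (C t) = (Nat.card (C a) : ℚ) • cl (C a) := fun t ht => by
    obtain ⟨e⟩ := C_equiv ((hrel t).1 (Finset.mem_filter.1 ht).2)
    rw [Nat.card_congr e.toEquiv, cl_congr e]
  have hcard : (Finset.univ.filter (fun t => q t = O)).card =
      Nat.card {t : CommTuple G r // (CommTuple.setoid G r).r a t} := by
    rw [← Nat.card_congr (Equiv.subtypeEquivRight hrel), Nat.card_eq_fintype_card, Fintype.card_subtype]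
    congr 1
    exact Finset.filter_congr fun t _ => Iff.rfl
  rw [Finset.sum_congr rfl hc, Finset.sum_const, hcard, ← Nat.cast_smul_eq_nsmul ℚ, smul_smul, ← Nat.cast_mul,
    card_class]

theorem T_congr {H : Type} [Group H] [Finite H] (e : G ≃* H) : T G r = T H r := by
  refine Fintype.sum_equiv
    { toFun := fun s => ⟨e ∘ s.1, e.injective.comp s.2.1, fun i j => (s.2.2 i j).map e.toMonoidHom⟩
      invFun := fun s => ⟨e.symm ∘ s.1, e.symm.injective.comp s.2.1, fun i j => (s.2.2 i j).map e.symm.toMonoidHom⟩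
      left_inv := fun s => Subtype.ext (funext fun i => e.symm_apply_apply _)
      right_inv := fun s => Subtype.ext (funext fun i => e.apply_symm_apply _) : CommTuple G r ≃ CommTuple H r } _ _ fun s => ?_
  have e2 : C s ≃* C (G := H) (r := r)
      ⟨e ∘ s.1, e.injective.comp s.2.1, fun i j => (s.2.2 i j).map e.toMonoidHom⟩ :=
    (e.subgroupMap (C s)).trans (MulEquiv.subgroupCongr (by
      ext x
      rw [Subgroup.mem_map]
      constructor
      · rintro ⟨y, hy, rfl⟩
        refine (mem_C (G := H) _ _).2 fun i => ?_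
        exact ((mem_C s y).1 hy i).map e.toMonoidHom
      · intro h
        refine ⟨e.symm x, (mem_C s _).2 fun i => ?_, e.apply_symm_apply x⟩
        have := ((mem_C (G := H) _ _).1 h i).map e.symm.toMonoidHom
        simpa using this))
  show (Nat.card (C s) : ℚ) • cl (C s) = _
  rw [Nat.card_congr e2.toEquiv, cl_congr e2]
  rfl

theorem inertiaR_cl (r : ℕ) : (Nat.card G : ℚ) • inertiaR r (cl G) = T G r := by
  rw [cl, inertiaR, Finsupp.linearCombination_single, one_smul,
    ← T_congr (repEquiv G).some, ← card_smul_inertiaROf, ← idx_card G]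
  rfl

/-- adjoining one element -/
noncomputable def consT (s : CommTuple G r) (g : C s) (hg : (g : G) ∉ Set.range s.1) : CommTuple G (r + 1) :=
  ⟨Fin.cons (g : G) s.1, Fin.cons_injective_iff.2 ⟨hg, s.2.1⟩, fun i j => by
    have h := (mem_C s g.1).1 g.2
    induction i using Fin.cases with
    | zero => induction j using Fin.cases with
      | zero => exact Commute.refl _
      | succ j => simpa using (h j).symm
    | succ i => induction j using Fin.cases with
      | zero => simpa using h i
      | succ j => simpa using s.2.2 i j⟩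

theorem inertia_T : inertia (T G r) = (r : ℚ) • T G r + T G (r + 1) := by
  classical
  have : ∀ s : CommTuple G r, Fintype (C s) := fun s => Fintype.ofFinite _
  -- value at a pair
  let F : (p : Σ s : CommTuple G r, C s) → K := fun p =>
    (Nat.card (C p.1 ⊓ Subgroup.centralizer {(p.2 : G)} : Subgroup G) : ℚ) •
      cl (C p.1 ⊓ Subgroup.centralizer {(p.2 : G)} : Subgroup G)
  have h1 : inertia (T G r) = ∑ p, F p := by
    rw [T, map_sum, Fintype.sum_sigma]
    refine Finset.sum_congr rfl fun s _ => ?_
    rw [map_smul, inertiaR_cl, T]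
    refine Fintype.sum_equiv
      { toFun := fun t => t.1 0
        invFun := fun h => ⟨fun _ => h, Function.injective_of_subsingleton _, fun _ _ => Commute.refl _⟩
        left_inv := fun t => Subtype.ext (funext fun i => congrArg t.1 (Subsingleton.elim _ _))
        right_inv := fun h => rfl : CommTuple (C s) 1 ≃ C s } _ _ fun t => ?_
    have e : C t ≃* (C s ⊓ Subgroup.centralizer {((t.1 0 : C s) : G)} : Subgroup G) :=
      (Subgroup.equivMapOfInjective (C t) (C s).subtype Subtype.val_injective).trans
        (MulEquiv.subgroupCongr (by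
          ext x
          simp only [Subgroup.mem_map, Subgroup.mem_inf, Subgroup.mem_centralizer_singleton_iff,
            Subgroup.coe_subtype, mem_C t]
          constructor
          · rintro ⟨y, hy, rfl⟩
            exact ⟨y.2, (congrArg Subtype.val (hy 0).eq).symm⟩
          · rintro ⟨hx, hx'⟩
            refine ⟨⟨x, hx⟩, fun i => ?_, rfl⟩
            rw [Subsingleton.elim i 0]
            exact Subtype.ext hx'.symm))
    show (Nat.card (C t) : ℚ) • cl (C t) = _
    rw [Nat.card_congr e.toEquiv, cl_congr e]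
    rfl
  rw [h1, ← Fintype.sum_subtype_add_sum_subtype (fun p => (p.2 : G) ∈ Set.range p.1.1) F]
  congr 1
  · -- repeated element
    let e : {p : Σ s : CommTuple G r, C s // (p.2 : G) ∈ Set.range p.1.1} ≃ CommTuple G r × Fin r := by
      refine (Equiv.ofBijective (fun q : CommTuple G r × Fin r =>
        (⟨⟨q.1, ⟨q.1.1 q.2, (mem_C q.1 _).2 fun i => q.1.2.2 i q.2⟩⟩, q.2, rfl⟩ :
          {p : Σ s : CommTuple G r, C s // (p.2 : G) ∈ Set.range p.1.1})) ⟨?_, ?_⟩).symm
      · rintro ⟨s, i⟩ ⟨s', i'⟩ h
        have hs : s = s' := congrArg (fun p => p.1.1) h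
        subst hs
        have : s.1 i = s.1 i' := congrArg (fun p => (p.1.2 : G)) h
        rw [s.2.1 this]
      · rintro ⟨⟨s, g, hg⟩, i, hi⟩
        exact ⟨(s, i), Subtype.ext (Sigma.ext rfl (heq_of_eq (Subtype.ext hi)))⟩
    have hsum : ∀ p : {p : Σ s : CommTuple G r, C s // (p.2 : G) ∈ Set.range p.1.1},
        F p.1 = (Nat.card (C p.1.1) : ℚ) • cl (C p.1.1) := fun p => by
      obtain ⟨i, hi⟩ := p.2
      have e2 : (C p.1.1 ⊓ Subgroup.centralizer {(p.1.2 : G)} : Subgroup G) = C p.1.1 :=
        inf_eq_left.2 fun x hx => by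
          rw [Subgroup.mem_centralizer_singleton_iff, ← hi]
          exact ((mem_C _ x).1 hx i).eq.symm
      simp only [F]
      rw [Nat.card_congr (MulEquiv.subgroupCongr e2).toEquiv, cl_congr (MulEquiv.subgroupCongr e2)]
    rw [Finset.sum_congr rfl fun p _ => hsum p]
    rw [Fintype.sum_equiv e _ (fun q => (Nat.card (C q.1) : ℚ) • cl (C q.1)) ?_,
      Fintype.sum_prod_type, T, Finset.smul_sum]
    · refine Finset.sum_congr rfl fun s _ => ?_
      refine (Finset.sum_const ((Nat.card (C s) : ℚ) • cl (C s))).trans ?_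
      rw [Nat.cast_smul_eq_nsmul ℚ r]
      congr 1
      simp
    · intro p
      rw [show (e p).1 = p.1.1 from congrArg (fun q => q.1.1) (e.symm_apply_apply p)]
  · -- new element
    refine Fintype.sum_bijective (fun p => consT p.1.1 p.1.2 p.2) ⟨?_, ?_⟩ _ _ fun p => ?_
    · rintro ⟨⟨s, g, hg⟩, hn⟩ ⟨⟨s', g', hg'⟩, hn'⟩ h
      have h2 : (Fin.cons g s.1 : Fin (r + 1) → G) = Fin.cons g' s'.1 := congrArg Subtype.val h
      obtain ⟨h0, h1⟩ := Fin.cons_inj.1 h2
      obtain rfl := Subtype.ext h1
      subst h0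
      rfl
    · intro t
      refine ⟨⟨⟨⟨Fin.tail t.1, t.2.1.comp (Fin.succ_injective _), fun i j => t.2.2 _ _⟩,
        t.1 0, (mem_C _ _).2 fun i => t.2.2 _ _⟩, ?_⟩, Subtype.ext (Fin.cons_self_tail _)⟩
      rintro ⟨i, hi⟩
      exact Fin.succ_ne_zero i (t.2.1 hi)
    · have e2 : (C p.1.1 ⊓ Subgroup.centralizer {(p.1.2 : G)} : Subgroup G) = C (consT p.1.1 p.1.2 p.2) := by
        ext x
        rw [Subgroup.mem_inf, mem_C, mem_C, Subgroup.mem_centralizer_singleton_iff]
        simp only [consT, Fin.forall_fin_succ, Fin.cons_zero, Fin.cons_succ]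
        exact ⟨fun h => ⟨h.2.symm, h.1⟩, fun h => ⟨h.2, h.1.eq.symm⟩⟩
      simp only [F]
      rw [Nat.card_congr (MulEquiv.subgroupCongr e2).toEquiv, cl_congr (MulEquiv.subgroupCongr e2)]

end tuples

theorem inertia_inertiaR (r : ℕ) :
    inertia ∘ₗ inertiaR r = (r : ℚ) • inertiaR r + inertiaR (r + 1) := by
  refine Finsupp.lhom_ext' fun i => LinearMap.ext_ring ?_
  have hcl : Finsupp.single i (1 : ℚ) = cl i.rep := by rw [cl, idx_of_rep]
  simp only [LinearMap.comp_apply, Finsupp.lsingle_apply, LinearMap.add_apply, LinearMap.smul_apply, hcl]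
  have hn : (Nat.card i.rep : ℚ) ≠ 0 := by simp [Nat.card_pos.ne']
  apply smul_right_injective K hn
  beta_reduce
  rw [← map_smul, smul_add, smul_comm (Nat.card i.rep : ℚ) (r : ℚ), inertiaR_cl, inertiaR_cl, inertia_T]

theorem inertiaR_zero : inertiaR 0 = LinearMap.id := by
  refine Finsupp.lhom_ext' fun i => LinearMap.ext_ring ?_
  have hcl : Finsupp.single i (1 : ℚ) = cl i.rep := by rw [cl, idx_of_rep]
  simp only [LinearMap.comp_apply, Finsupp.lsingle_apply, LinearMap.id_apply, hcl]
  have hn : (Nat.card i.rep : ℚ) ≠ 0 := by simp [Nat.card_pos.ne']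
  apply smul_right_injective K hn
  simp only [inertiaR_cl, T]
  let u : CommTuple i.rep 0 := ⟨Fin.elim0, fun a => a.elim0, fun a => a.elim0⟩
  rw [Fintype.sum_eq_single u fun t ht => (ht (Subtype.ext (funext fun a => a.elim0))).elim]
  have e : C u = ⊤ := eq_top_iff.2 fun x _ => (mem_C _ _).2 fun a => a.elim0
  have e' : C u ≃* i.rep := (MulEquiv.subgroupCongr e).trans Subgroup.topEquiv
  rw [Nat.card_congr e'.toEquiv, cl_congr e']

/-- `inertiaR r` is the descending factorial of the inertia operator -/
theorem inertiaR_eq (r : ℕ) : inertiaR r = Polynomial.aeval (inertia : Module.End ℚ K) (descPochhammer ℚ r) := by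
  induction r with
  | zero => simp [inertiaR_zero, Module.End.one_eq_id]
  | succ r ih =>
    rw [descPochhammer_succ_right, mul_comm, map_mul, ← ih, map_sub, Polynomial.aeval_X, map_natCast, sub_mul,
      Module.End.mul_eq_comp, inertia_inertiaR]
    ext v
    simp [Module.End.mul_apply, Module.End.natCast_apply, Nat.cast_smul_eq_nsmul]

end Groth.Agent.Inertia
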