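import Mathlib
import Groth.Agent.Inertia.Basic

set_option autoImplicit false

open W4c5stacksedinertia

namespace Groth.Agent.Inertia

local notation "I" => (inertia : Module.End ℚ K)

theorem single_eq_cl (i : Idx) : Finsupp.single i (1 : ℚ) = cl i.rep := by rw [cl, idx_of_rep]

theorem map_supported_le (f : K →ₗ[ℚ] K) (S : Set Idx) (W : Submodule ℚ K)
    (h : ∀ i ∈ S, f (cl i.rep) ∈ W) {v : K} (hv : v ∈ Finsupp.supported ℚ ℚ S) : f v ∈ W := by
  rw [← v.sum_single, Finsupp.sum, map_sum]
  refine Submodule.sum_mem _ fun i hi => ?_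
  have : Finsupp.single i (v i) = v i • cl i.rep := by rw [← single_eq_cl, Finsupp.smul_single_one]
  rw [this, map_smul]
  exact W.smul_mem _ (h i ((Finsupp.mem_supported ℚ v).1 hv hi))

theorem cl_mem_Kle {G : Type} [Group G] [Finite G] {n : ℕ} (h : Nat.card G ≤ n) : cl G ∈ Kle n :=
  Finsupp.single_mem_supported ℚ _ (show (Idx.of G).card ≤ n by rwa [idx_card])

theorem cl_mem_Kge {G : Type} [Group G] [Finite G] {n : ℕ} (h : n ≤ Nat.card (Subgroup.center G)) :
    cl G ∈ Kge n :=
  Finsupp.single_mem_supported ℚ _ (show n ≤ (Idx.of G).centerCard by rwa [idx_centerCard])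

theorem inertiaR_cl' {G : Type} [Group G] [Finite G] (r : ℕ) :
    inertiaR r (cl G) = (Nat.card G : ℚ)⁻¹ • T G r := by
  rw [← inertiaR_cl, inv_smul_smul₀]
  simp [Nat.card_pos.ne']

theorem exists_Kle (v : K) : ∃ N, v ∈ Kle N :=
  ⟨v.support.sup Idx.card, (Finsupp.mem_supported ℚ v).2 fun i hi => Finset.le_sup (f := Idx.card) hi⟩

theorem inertiaR_eq_zero {N r : ℕ} (hr : N < r) {v : K} (hv : v ∈ Kle N) : inertiaR r v = 0 := by
  refine (Submodule.mem_bot ℚ).1 (map_supported_le _ _ ⊥ (fun i hi => ?_) hv)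
  rw [Submodule.mem_bot, inertiaR_cl']
  have : IsEmpty (CommTuple i.rep r) := ⟨fun t => by
    have := Nat.card_le_card_of_injective _ t.2.1
    have h : Nat.card i.rep ≤ N := hi
    rw [Nat.card_eq_fintype_card, Fintype.card_fin] at this
    omega⟩
  simp [T]

theorem inertiaR_mem_Kle {N r : ℕ} {v : K} (hv : v ∈ Kle N) : inertiaR r v ∈ Kle N := by
  refine map_supported_le _ _ (Kle N) (fun i hi => ?_) hv
  rw [inertiaR_cl']
  exact Submodule.smul_mem _ _ (Submodule.sum_mem _ fun t _ => Submodule.smul_mem _ _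
    (cl_mem_Kle ((Subgroup.card_le_card_group _).trans hi)))

theorem center_le_C {G : Type} [Group G] {r : ℕ} (s : CommTuple G r) : Subgroup.center G ≤ C s :=
  Subgroup.center_le_centralizer _

theorem center_card_le {G : Type} [Group G] [Finite G] {r : ℕ} (s : CommTuple G r) :
    Nat.card (Subgroup.center G) ≤ Nat.card (Subgroup.center (C s)) := by
  refine Nat.card_le_card_of_injective (fun z => ⟨⟨z.1, center_le_C s z.2⟩,
    Subgroup.mem_center_iff.2 fun g => Subtype.ext (Subgroup.mem_center_iff.1 z.2 g.1)⟩) ?_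
  intro a b h
  exact Subtype.ext (congrArg (fun x => x.1.1) h)

theorem inertiaR_mem_Kge {k r : ℕ} {v : K} (hv : v ∈ Kge k) : inertiaR r v ∈ Kge k := by
  refine map_supported_le _ _ (Kge k) (fun i hi => ?_) hv
  rw [inertiaR_cl']
  exact Submodule.smul_mem _ _ (Submodule.sum_mem _ fun t _ => Submodule.smul_mem _ _
    (cl_mem_Kge (le_trans hi (center_card_le t))))

theorem inertia_cl_sub_mem (G : Type) [Group G] [Finite G] :
    I (cl G) - (Nat.card (Subgroup.center G) : ℚ) • cl G ∈ Kge (Nat.card (Subgroup.center G) + 1) := by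
  classical
  set c := Nat.card (Subgroup.center G)
  let e : CommTuple G 1 ≃ G :=
    { toFun := fun t => t.1 0
      invFun := fun h => ⟨fun _ => h, Function.injective_of_subsingleton _, fun _ _ => Commute.refl _⟩
      left_inv := fun t => Subtype.ext (funext fun i => congrArg t.1 (Subsingleton.elim _ _))
      right_inv := fun h => rfl }
  set S := Finset.univ.filter fun t : CommTuple G 1 => e t ∈ Subgroup.center G
  have hS : S.card = c := by
    rw [show S.card = Nat.card {t // e t ∈ Subgroup.center G} by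
      rw [Nat.card_eq_fintype_card, Fintype.card_subtype]]
    exact Nat.card_congr (e.subtypeEquiv fun t => Iff.rfl)
  have hn : (Nat.card G : ℚ) ≠ 0 := by simp [Nat.card_pos.ne']
  have h1 : ∀ t ∈ S, (Nat.card (C t) : ℚ) • cl (C t) = (Nat.card G : ℚ) • cl G := fun t ht => by
    have hz : t.1 0 ∈ Subgroup.center G := (Finset.mem_filter.1 ht).2
    have hC : C t = ⊤ := eq_top_iff.2 fun x _ => (mem_C t x).2 fun i => by
      rw [Subsingleton.elim i 0]
      exact (Subgroup.mem_center_iff.1 hz x).symm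
    have e' : C t ≃* G := (MulEquiv.subgroupCongr hC).trans Subgroup.topEquiv
    rw [Nat.card_congr e'.toEquiv, cl_congr e']
  show inertiaR 1 (cl G) - _ ∈ _
  rw [inertiaR_cl', T, ← Finset.sum_add_sum_compl S, Finset.sum_congr rfl h1, Finset.sum_const, hS,
    ← Nat.cast_smul_eq_nsmul ℚ, smul_add, smul_comm (c : ℚ), inv_smul_smul₀ hn, add_sub_cancel_left]
  refine Submodule.smul_mem _ _ (Submodule.sum_mem _ fun t ht => Submodule.smul_mem _ _ (cl_mem_Kge ?_))
  have hz : t.1 0 ∉ Subgroup.center G := fun h =>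
    (Finset.mem_compl.1 ht) (Finset.mem_filter.2 ⟨Finset.mem_univ _, h⟩)
  refine Nat.lt_of_le_of_ne (center_card_le t) fun heq => hz ?_
  have hinj : Function.Injective (fun z : Subgroup.center G => (⟨⟨z.1, center_le_C t z.2⟩,
      Subgroup.mem_center_iff.2 fun g => Subtype.ext (Subgroup.mem_center_iff.1 z.2 g.1)⟩ :
      Subgroup.center (C t))) := fun a b h => Subtype.ext (congrArg (fun x => x.1.1) h)
  have hbij := (Nat.bijective_iff_injective_and_card _).2 ⟨hinj, heq⟩
  obtain ⟨z, hz'⟩ := hbij.2 ⟨⟨t.1 0, (mem_C t _).2 fun i => by rw [Subsingleton.elim i 0]⟩,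
    Subgroup.mem_center_iff.2 fun g => Subtype.ext ((mem_C t g.1).1 g.2 0).eq.symm⟩
  rw [← show z.1 = t.1 0 from congrArg (fun x => x.1.1) hz']
  exact z.2

theorem sub_smul_mem (k : ℕ) {v : K} (hv : v ∈ Kge k) : I v - (k : ℚ) • v ∈ Kge (k + 1) := by
  refine map_supported_le (I - (k : ℚ) • LinearMap.id) _ (Kge (k + 1)) (fun i hi => ?_) hv
  have hk : k ≤ Nat.card (Subgroup.center i.rep) := hi
  rw [LinearMap.sub_apply, LinearMap.smul_apply, LinearMap.id_apply,
    ← sub_add_sub_cancel _ ((Nat.card (Subgroup.center i.rep) : ℚ) • cl i.rep), ← sub_smul]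
  refine add_mem ((Finsupp.supported_mono (R := ℚ) (M := ℚ) (s := {j : Idx | Nat.card (Subgroup.center i.rep) + 1 ≤ j.centerCard})
    (t := {j : Idx | k + 1 ≤ j.centerCard}) fun j hj => ?_) (inertia_cl_sub_mem i.rep)) ?_
  · exact le_trans (Nat.succ_le_succ hk) hj
  · rcases hk.eq_or_lt with h | h
    · rw [← h, sub_self, zero_smul]; exact zero_mem _
    · exact Submodule.smul_mem _ _ (cl_mem_Kge h)

theorem aeval_mem_Kge (p : Polynomial ℚ) {k : ℕ} {v : K} (hv : v ∈ Kge k) :
    Polynomial.aeval I p v ∈ Kge k := by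
  induction p using Polynomial.induction_on generalizing v with
  | C a => simpa [Polynomial.aeval_C] using (Kge k).smul_mem a hv
  | add p q hp hq => simpa using add_mem (hp hv) (hq hv)
  | monomial n a h =>
    rw [pow_succ, ← mul_assoc, map_mul, Polynomial.aeval_X]
    exact h (inertiaR_mem_Kge hv)

theorem aeval_sub_smul_mem (p : Polynomial ℚ) {k : ℕ} {v : K} (hv : v ∈ Kge k) :
    Polynomial.aeval I p v - p.eval (k : ℚ) • v ∈ Kge (k + 1) := by
  obtain ⟨q, hq⟩ := Polynomial.X_sub_C_dvd_sub_C_eval (a := (k : ℚ)) (p := p)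
  have h := congrArg (fun s => Polynomial.aeval I s v) hq
  simp only [map_sub, map_mul, Polynomial.aeval_C, Polynomial.aeval_X, LinearMap.sub_apply,
    Module.End.mul_apply, Module.algebraMap_end_apply] at h
  rw [h]
  exact sub_smul_mem k (aeval_mem_Kge q hv)

theorem aeval_apply_eigen (p : Polynomial ℚ) {μ : ℚ} {v : K} (hv : v ∈ Module.End.eigenspace I μ) :
    Polynomial.aeval I p v = p.eval μ • v := by
  rw [Module.End.mem_eigenspace_iff] at hv
  induction p using Polynomial.induction_on with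
  | C a => simp [Polynomial.aeval_C]
  | add p q hp hq => simp [hp, hq, add_smul]
  | monomial n a h =>
    rw [pow_succ, ← mul_assoc, map_mul, Polynomial.aeval_X, Module.End.mul_apply, hv, map_smul, h,
      smul_smul, Polynomial.eval_mul_X, mul_comm]

theorem descPochhammer_eq_prod (n : ℕ) :
    descPochhammer ℚ n = ∏ j ∈ Finset.range n, (Polynomial.X - Polynomial.C (j : ℚ)) := by
  induction n with
  | zero => simp
  | succ n ih => rw [descPochhammer_succ_right, Finset.prod_range_succ, ih, map_natCast]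

theorem aeval_eq_zero (p : Polynomial ℚ) {N : ℕ} (hp : ∀ j ≤ N, p.eval (j : ℚ) = 0) {v : K}
    (hv : v ∈ Kle N) : Polynomial.aeval I p v = 0 := by
  have hd : descPochhammer ℚ (N + 1) ∣ p := by
    rw [descPochhammer_eq_prod]
    refine Finset.prod_dvd_of_coprime (fun a _ b _ hab => ?_) fun j hj =>
      Polynomial.dvd_iff_isRoot.2 (hp j (by simpa [Nat.lt_succ_iff] using hj))
    exact Polynomial.isCoprime_X_sub_C_of_isUnit_sub (isUnit_iff_ne_zero.2 (sub_ne_zero.2 (by simpa using hab)))
  obtain ⟨q, rfl⟩ := hd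
  rw [mul_comm, map_mul, Module.End.mul_apply, ← inertiaR_eq, inertiaR_eq_zero (by omega) hv, map_zero]

/-- coefficient of the `k`-th projection -/
noncomputable def co (r k : ℕ) : ℚ := (-1 : ℚ) ^ (r + k) / (r.factorial : ℚ) * (r.choose k : ℚ)

noncomputable def Pp (N k : ℕ) : Polynomial ℚ :=
  ∑ r ∈ Finset.range (N + 1), co r k • descPochhammer ℚ r

noncomputable def P (k : ℕ) (v : K) : K := ∑ᶠ r : ℕ, co r k • inertiaR r v

theorem P_eq {N : ℕ} {v : K} (hv : v ∈ Kle N) (k : ℕ) : P k v = Polynomial.aeval I (Pp N k) v := by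
  rw [P, finsum_eq_sum_of_support_subset _ (s := Finset.range (N + 1))]
  · rw [Pp, map_sum, LinearMap.sum_apply]
    refine Finset.sum_congr rfl fun r _ => ?_
    rw [map_smul, LinearMap.smul_apply, ← inertiaR_eq]
  · intro r hr
    rw [Finset.coe_range, Set.mem_Iio]
    by_contra hc
    exact hr (by beta_reduce; rw [inertiaR_eq_zero (by omega) hv, smul_zero])

theorem alt_sum (n : ℕ) {N : ℕ} (h : n ≤ N) :
    ∑ i ∈ Finset.range (N + 1), (-1 : ℚ) ^ i * (n.choose i : ℚ) = if n = 0 then 1 else 0 := by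
  rw [← Finset.sum_subset (Finset.range_mono (show n + 1 ≤ N + 1 by omega)) fun i _ hi => by
    rw [Nat.choose_eq_zero_of_lt (by simpa using hi)]; simp]
  exact_mod_cast Int.alternating_sum_range_choose (n := n)

theorem Pp_eval {N : ℕ} (k : ℕ) {j : ℕ} (hj : j ≤ N) :
    (Pp N k).eval (j : ℚ) = if j = k then 1 else 0 := by
  have hterm : ∀ r, co r k * (descPochhammer ℚ r).eval (j : ℚ) =
      (-1 : ℚ) ^ (r + k) * ((j.choose r * r.choose k : ℕ) : ℚ) := fun r => by
    rw [descPochhammer_eval_eq_descFactorial, Nat.descFactorial_eq_factorial_mul_choose, co]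
    push_cast
    field_simp
  simp only [Pp, Polynomial.eval_finsetSum, Polynomial.eval_smul, smul_eq_mul, hterm]
  rcases Nat.lt_or_ge j k with h | h
  · rw [if_neg h.ne]
    refine Finset.sum_eq_zero fun r _ => ?_
    rcases Nat.lt_or_ge j r with h' | h'
    · simp [Nat.choose_eq_zero_of_lt h']
    · simp [Nat.choose_eq_zero_of_lt (h'.trans_lt h)]
  rw [← Finset.sum_range_add_sum_Ico _ (show k ≤ N + 1 by omega),
    Finset.sum_eq_zero fun r hr => by simp [Nat.choose_eq_zero_of_lt (Finset.mem_range.1 hr)], zero_add,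
    Finset.sum_Ico_eq_sum_range]
  have : ∀ i, (-1 : ℚ) ^ (k + i + k) * ((j.choose (k + i) * (k + i).choose k : ℕ) : ℚ) =
      (j.choose k : ℚ) * ((-1 : ℚ) ^ i * ((j - k).choose i : ℚ)) := fun i => by
    rw [show k + i + k = 2 * k + i by omega, pow_add, pow_mul, neg_one_sq, one_pow, one_mul,
      Nat.choose_mul (n := j) (Nat.le_add_right k i), Nat.add_sub_cancel_left]
    push_cast
    ring
  simp only [this, ← Finset.mul_sum]
  rw [show N + 1 - k = (N - k) + 1 by omega, alt_sum (j - k) (show j - k ≤ N - k by omega)]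
  rcases eq_or_ne j k with rfl | hne
  · simp
  · rw [if_neg (show j - k ≠ 0 by omega), mul_zero, if_neg hne]

theorem P_mem_eigenspace (k : ℕ) (v : K) : P k v ∈ Module.End.eigenspace I (k : ℚ) := by
  obtain ⟨N, hN⟩ := exists_Kle v
  rw [Module.End.mem_eigenspace_iff, P_eq hN, ← sub_eq_zero]
  have := aeval_eq_zero ((Polynomial.X - Polynomial.C (k : ℚ)) * Pp N k) (fun j hj => by
    rw [Polynomial.eval_mul, Pp_eval k hj]
    split_ifs with h <;> simp [h]) hN
  simpa [Nat.cast_smul_eq_nsmul] using this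

theorem sum_P {N : ℕ} {v : K} (hv : v ∈ Kle N) : ∑ k ∈ Finset.range (N + 1), P k v = v := by
  have h := aeval_eq_zero (∑ k ∈ Finset.range (N + 1), Pp N k - 1) (fun j hj => by
    simp [Polynomial.eval_finsetSum, Pp_eval _ hj, Finset.mem_range, Nat.lt_succ_iff, hj]) hv
  rw [map_sub, map_one, LinearMap.sub_apply, sub_eq_zero, Module.End.one_apply, map_sum,
    LinearMap.sum_apply] at h
  simpa only [P_eq hv] using h

theorem P_eq_zero {N : ℕ} {v : K} (hv : v ∈ Kle N) {k : ℕ} (hk : N < k) : P k v = 0 := by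
  rw [P_eq hv]
  exact aeval_eq_zero _ (fun j hj => by rw [Pp_eval k hj, if_neg (by omega)]) hv

theorem finsum_P (v : K) : ∑ᶠ k : ℕ, P k v = v := by
  obtain ⟨N, hN⟩ := exists_Kle v
  rw [finsum_eq_sum_of_support_subset _ (s := Finset.range (N + 1)), sum_P hN]
  intro k hk
  rw [Finset.coe_range, Set.mem_Iio]
  by_contra hc
  exact hk (P_eq_zero hN (by omega))

theorem inertiaR_eigen {k : ℕ} {v : K} (hv : v ∈ Module.End.eigenspace I (k : ℚ)) (r : ℕ) :
    inertiaR r v = ((Nat.factorial r * Nat.choose k r : ℕ) : ℚ) • v := by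
  rw [inertiaR_eq, aeval_apply_eigen _ hv, descPochhammer_eval_eq_descFactorial,
    Nat.descFactorial_eq_factorial_mul_choose]

theorem inertia_injective {v : K} (hv : I v = 0) : v = 0 := by
  obtain ⟨N, hN⟩ := exists_Kle v
  have h : ∀ c, 1 ≤ c → v ∈ Kge c := by
    intro c hc
    induction c, hc using Nat.le_induction with
    | base => exact (Finsupp.mem_supported ℚ v).2 fun i _ => Nat.card_pos
    | succ c hc ih =>
      have := sub_smul_mem c ih
      rw [hv, zero_sub, neg_mem_iff] at this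
      exact (Submodule.smul_mem_iff _ (by positivity)).1 this
  have h1 := (Finsupp.mem_supported ℚ v).1 (h (N + 1) (by omega))
  have h2 := (Finsupp.mem_supported ℚ v).1 hN
  ext i
  by_contra hi
  have hi' : i ∈ (v.support : Set Idx) := by simpa using hi
  have a1 : N + 1 ≤ i.centerCard := h1 hi'
  have a2 : i.card ≤ N := h2 hi'
  have a3 : i.centerCard ≤ i.card := Subgroup.card_le_card_group _
  omega

theorem hasEigenvalue_iff (μ : ℚ) : Module.End.HasEigenvalue I μ ↔ ∃ n : ℕ, 0 < n ∧ μ = (n : ℚ) := by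
  constructor
  · intro h
    obtain ⟨v, hv, hv0⟩ := h.exists_hasEigenvector
    obtain ⟨N, hN⟩ := exists_Kle v
    obtain ⟨k, hk, hPk⟩ : ∃ k ∈ Finset.range (N + 1), P k v ≠ 0 := by
      by_contra hc
      push Not at hc
      exact hv0 ((sum_P hN).symm.trans (Finset.sum_eq_zero hc))
    have e1 := Module.End.mem_eigenspace_iff.1 (P_mem_eigenspace k v)
    have e2 : I (P k v) = μ • P k v := by
      have hc : Polynomial.aeval I (Polynomial.X * Pp N k) v = Polynomial.aeval I (Pp N k * Polynomial.X) v := by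
        rw [mul_comm]
      rw [map_mul, map_mul, Polynomial.aeval_X, Module.End.mul_apply, Module.End.mul_apply] at hc
      rw [P_eq hN, hc, Module.End.mem_eigenspace_iff.1 hv, map_smul]
    have hμ : μ = (k : ℚ) := by
      rw [e1] at e2
      exact (smul_left_injective ℚ hPk e2).symm
    refine ⟨k, Nat.pos_of_ne_zero fun h0 => hPk (inertia_injective ?_), hμ⟩
    rw [e1, h0, Nat.cast_zero, zero_smul]
  · rintro ⟨n, hn, rfl⟩
    have : NeZero n := ⟨hn.ne'⟩
    let G := Multiplicative (ZMod n)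
    have hG : Nat.card (Subgroup.center G) = n := by
      rw [Subgroup.center_eq_top_iff.2 ⟨⟨fun a b => mul_comm a b⟩⟩, Subgroup.card_top]
      simp [G]
    have hN : cl G ∈ Kle n := cl_mem_Kle (by simp [G])
    have hd := aeval_sub_smul_mem (Pp n n) (cl_mem_Kge hG.ge)
    rw [Pp_eval n le_rfl, if_pos rfl, one_smul, ← P_eq hN] at hd
    refine Module.End.hasEigenvalue_of_hasEigenvector ⟨P_mem_eigenspace n (cl G), fun h0 => ?_⟩
    rw [h0, zero_sub, neg_mem_iff, cl] at hd
    have := (Finsupp.mem_supported ℚ _).1 hd (show Idx.of G ∈ _ by simp)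
    have h' : n + 1 ≤ (Idx.of G).centerCard := this
    rw [idx_centerCard, hG] at h'
    omega

theorem ker_inertiaR (r : ℕ) :
    LinearMap.ker (inertiaR r) = ⨆ k ∈ Finset.range r, Module.End.eigenspace I (k : ℚ) := by
  refine le_antisymm (fun v hv => ?_) (iSup₂_le fun k hk v hv => ?_)
  · obtain ⟨N, hN⟩ := exists_Kle v
    rw [← sum_P hN]
    refine Submodule.sum_mem _ fun k _ => ?_
    by_cases hkr : k < r
    · exact Submodule.mem_iSup_of_mem k (Submodule.mem_iSup_of_mem (Finset.mem_range.2 hkr)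
        (P_mem_eigenspace k v))
    · have h := inertiaR_eigen (P_mem_eigenspace k v) r
      have h0 : inertiaR r (P k v) = 0 := by
        rw [inertiaR_eq, P_eq hN, ← Module.End.mul_apply, ← map_mul, mul_comm, map_mul,
          Module.End.mul_apply, ← inertiaR_eq, LinearMap.mem_ker.1 hv, map_zero]
      rw [h0, eq_comm, smul_eq_zero] at h
      rcases h with h | h
      · exact absurd h (by simp [Nat.factorial_ne_zero, Nat.choose_eq_zero_iff, hkr])
      · rw [h]; exact zero_mem _
  · rw [LinearMap.mem_ker, inertiaR_eigen hv, Nat.choose_eq_zero_of_lt (Finset.mem_range.1 hk),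
      mul_zero, Nat.cast_zero, zero_smul]

end Groth.Agent.Inertia
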